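import Groth.Agent.RelVALib.FTBundle
import Groth.Agent.FlatMor12.AmpleFamily
import Groth.Agent.Omega15.ConormalExist
import Groth.Agent.SDiv28.Charts
import Groth.Agent.AmpleLib.FTIdeal
import Groth.Agent.MorProj.VeryAmple

/-!
# A blow-up in an ideal of finite type is projective
-/

set_option autoImplicit false
set_option linter.style.haveILetI false
set_option backward.isDefEq.respectTransparency.types false
set_option maxHeartbeats 1000000

universe u

open CategoryTheory CategoryTheory.Limits AlgebraicGeometry Opposite TopologicalSpace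
open Groth.Agent.Coherent Groth.Agent.PicLib Groth.Agent.AmpleLib Groth.Agent.RelVALib

namespace Groth.Agent.BlowProjH2

variable {X X' : Scheme.{u}} {b : X' ⟶ X} {I : X.IdealSheafData}

theorem exists_idealSect_eq {U : X.affineOpens} {a : Γ(X, U.1)} (ha : a ∈ I.ideal U) :
    ∃ e : Γ(ClSub.idealMod I, U.1), (ClSub.idealModι I).app U.1 e = a :=
  have h : I.subschemeι.app U.1 a = 0 :=
    RingHom.mem_ker.1 (show a ∈ RingHom.ker (I.subschemeι.app U.1).hom by rw [I.ker_subschemeι_app U]; exact ha)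
  (mem_range_idealModι I U.1 a).2 h

theorem idealModι_mem {U : X.affineOpens} (e : Γ(ClSub.idealMod I, U.1)) :
    (show Γ(X, U.1) from (ClSub.idealModι I).app U.1 e) ∈ I.ideal U := by
  rw [← I.ker_subschemeι_app U]
  exact RingHom.mem_ker.2 ((mem_range_idealModι I U.1 _).1 ⟨e, rfl⟩)

theorem ι_appLE_topIso {X' X : Scheme.{u}} (g : X' ⟶ X) {O : X.Opens} (W : X'.Opens) (hW : W ≤ g ⁻¹ᵁ O) :
    (W.ι ≫ g).appLE O ⊤ (fun x _ => hW x.2) ≫ W.topIso.hom = g.appLE O W hW := by
  rw [← Scheme.Hom.appLE_comp_appLE W.ι g O W ⊤ hW (fun x _ => x.2), Category.assoc, Scheme.Opens.ι_appLE,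
    Scheme.Opens.topIso_hom]
  erw [← Functor.map_comp, Scheme.Hom.appLE_map]

/-- Functions on a chart are polynomials in the base and the fractions. -/
theorem closure_chart (hb : BlowUp.IsBlowUp b I) (U : X.affineOpens) {a : Γ(X, U.1)} (ha : a ∈ I.ideal U) :
    Subring.closure (Set.range (b.appLE U.1 _ (BlowUpLib.locus_le b U a)) ∪
      {x : Γ(X', BlowUpLib.locus I b U a) | ∃ a' ∈ I.ideal U,
        x * b.appLE U.1 _ (BlowUpLib.locus_le b U a) a = b.appLE U.1 _ (BlowUpLib.locus_le b U a) a'}) = ⊤ := by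
  obtain ⟨W, hWU, hWdef⟩ : ∃ (W : X'.Opens) (h : W ≤ b ⁻¹ᵁ U.1), BlowUpLib.locus I b U a = W :=
    ⟨_, BlowUpLib.locus_le b U a, rfl⟩
  obtain ⟨e, he⟩ := SDiv28.exists_locus_iso hb U ha
  revert e
  generalize BlowUpLib.locus_le (I := I) b U a = h₀
  revert h₀
  rw [hWdef]
  intro h₀ e he
  let A := Γ(X, U.1)
  let R := BlowUpLib.ChartRing I U a
  let σ : CommRingCat.of R ⟶ Γ(X', W) :=
    ((Scheme.ΓSpecIso (CommRingCat.of R)).inv ≫ e.hom.appTop) ≫ W.topIso.hom
  have : IsIso e.hom.appTop := inferInstanceAs (IsIso (e.hom.app ⊤))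
  have : IsIso σ := by simp only [σ]; infer_instance
  have hσb : Function.Bijective σ := ConcreteCategory.bijective_of_isIso σ
  have eT : (⊤ : (BlowUpLib.chart I U a).Opens) ≤ BlowUpLib.chartMap I U a ⁻¹ᵁ U.1 := fun z _ => by
    show U.2.fromSpec _ ∈ U.1
    rw [← SetLike.mem_coe, ← U.2.range_fromSpec]
    exact ⟨_, rfl⟩
  have hσA : CommRingCat.ofHom (algebraMap A R) ≫ σ = b.appLE U.1 W h₀ := by
    rw [← ι_appLE_topIso b W h₀]
    simp only [← he]
    rw [← Scheme.Hom.appLE_comp_appLE e.hom (BlowUpLib.chartMap I U a) U.1 ⊤ ⊤ eT le_top,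
      BlowUpLib.chartMap_appLE eT, Category.assoc]
    have e2 : e.hom.appLE ⊤ ⊤ le_top = e.hom.appTop := Scheme.Hom.appLE_eq_app (f := e.hom) (U := ⊤)
    rw [e2]
    simp only [σ, Category.assoc]
    rfl
  have hA : ∀ r : A, σ.hom (algebraMap A R r) = b.appLE U.1 W h₀ r := fun r => congr($(hσA) r)
  rw [eq_top_iff]
  intro y hy
  clear hy
  obtain ⟨⟨q, hq⟩, rfl⟩ := hσb.2 y
  induction hq using Algebra.adjoin_induction with
  | mem x hx =>
    obtain ⟨x', hx', rfl⟩ := hx
    refine Subring.subset_closure (Or.inr ⟨x', hx', ?_⟩)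
    rw [← hA, ← hA, ← map_mul]
    exact congrArg σ.hom (BlowUpLib.frac_mul x' hx')
  | algebraMap r => exact Subring.subset_closure (Or.inl ⟨r, (hA r).symm⟩)
  | add x y hx hy ihx ihy =>
    rw [show (⟨x + y, add_mem hx hy⟩ : R) = ⟨x, hx⟩ + ⟨y, hy⟩ from rfl, map_add]
    exact add_mem ihx ihy
  | mul x y hx hy ihx ihy =>
    rw [show (⟨x * y, mul_mem hx hy⟩ : R) = ⟨x, hx⟩ * ⟨y, hy⟩ from rfl, map_mul]
    exact mul_mem ihx ihy

theorem isProjective_blowUp (hb : BlowUp.IsBlowUp b I) (hI : BlowUp.IsFiniteTypeIdeal I) :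
    RelProj.IsProjective b := by
  haveI := BlowUpLib.isProper_of_isBlowUp hb hI
  let E := ClSub.idealMod I
  have hE := isCoh_idealMod I hI
  haveI : Coh.IsQCoh E := hE.1
  let J := I.comap b
  let L := ClSub.idealMod J
  have hL : PicF.IsInvertible L := FlatMor12.IdealModGen.isInvertible_idealMod _ hb.1
  obtain ⟨t, ht⟩ := Omega15.exists_idealPull b J I
    (Scheme.IdealSheafData.le_map_iff_comap_le.2 le_rfl)
  have ht' : ∀ (U : X.Opens) (s : Γ(E, U)),
      (ClSub.idealModι J).app (b ⁻¹ᵁ U) (t.app U s) = b.app U ((ClSub.idealModι I).app U s) := ht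
  have hres : ∀ (U : X.Opens) (s : Γ(E, U)) (W : X'.Opens) (hW : W ≤ b ⁻¹ᵁ U),
      (ClSub.idealModι J).app W (resM L hW (t.app U s)) = b.appLE U W hW ((ClSub.idealModι I).app U s) := by
    intro U s W hW
    rw [app_resM, ht']
    rfl
  have hinj : ∀ W : X'.Opens, Function.Injective ((ClSub.idealModι J).app W) := fun W =>
    haveI := mono_idealModι J
    app_injective_of_mono (ClSub.idealModι J) W
  have hk : ∀ (U : X.affineOpens) (e : Γ(E, U.1)),
      IsGen L (BlowUpLib.locus I b U ((ClSub.idealModι I).app U.1 e))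
          (resM L (BlowUpLib.locus_le b U _) (t.app U.1 e)) ∧
        ∀ (W : X'.Opens) (h : W ≤ b ⁻¹ᵁ U.1), IsGen L W (resM L h (t.app U.1 e)) →
          W ≤ BlowUpLib.locus I b U ((ClSub.idealModι I).app U.1 e) := by
    intro U e
    set a := (ClSub.idealModι I).app U.1 e with hadef
    let W₀ := BlowUpLib.locus I b U a
    refine ⟨?_, fun W h hg y hy => ?_⟩
    · refine isGen_of_cover (fun V : {V : X'.affineOpens // BlowUpLib.Generates I b U a V} => V.1.1)
        (fun V => le_iSup (fun V : {V : X'.affineOpens // BlowUpLib.Generates I b U a V} => V.1.1) V)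
        le_rfl fun V => ?_
      obtain ⟨⟨V, hV⟩, e', he⟩ := V
      rw [resM_resM]
      refine FlatMor12.IdealModGen.bijective_smul_of_affine_gen J hV ?_ ?_ he
      · exact hres U.1 e V e'
      · exact (isRegular_iff_mem_nonZeroDivisors.2 (BlowUpLib.mem_nonZeroDivisors_of_eff hb.1 he)).left
    · obtain ⟨_, ⟨V, hV, rfl⟩, hyV, hVW⟩ :=
        X'.isBasis_affineOpens.exists_subset_of_mem_open (show y ∈ W from hy) W.isOpen
      have e' : V ≤ b ⁻¹ᵁ U.1 := le_trans hVW h
      refine BlowUpLib.mem_locus.2 ⟨⟨V, hV⟩, hyV, e', le_antisymm (fun g hg' => ?_) ?_⟩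
      · obtain ⟨k', hk'⟩ := (mem_range_idealModι J V g).2
          (RingHom.mem_ker.1 ((J.ker_subschemeι_app ⟨V, hV⟩).symm ▸ hg'))
        obtain ⟨r, hr⟩ := (hg V hVW).2 k'
        refine Ideal.mem_span_singleton'.2 ⟨r, ?_⟩
        have h4 := congrArg ((ClSub.idealModι J).app V) hr
        simp only [resM_resM] at h4
        rw [Scheme.Modules.Hom.app_smul, hres, hk'] at h4
        exact h4
      · rw [Ideal.span_singleton_le_iff_mem]
        exact ProjLib.map_ideal_le_comap_ideal I b U ⟨V, hV⟩ e' (Ideal.mem_map_of_mem _ (idealModι_mem e))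
  have hcov : ∀ x : X', ∃ (U : X.Opens) (_ : IsAffineOpen U) (e : Γ(E, U)) (W : X'.Opens)
      (hW : W ≤ b ⁻¹ᵁ U), x ∈ W ∧ IsGen L W (resM L hW (t.app U e)) := by
    intro x
    obtain ⟨U, hU, hxU, -⟩ := Opens.isBasis_iff_nbhd.1 X.isBasis_affineOpens
      (show b x ∈ (⊤ : X.Opens) from trivial)
    obtain ⟨a, ha, hxa⟩ := BlowUpLib.exists_mem_locus b hb.1 ⟨U, hU⟩ (y := x) hxU (I.ideal ⟨U, hU⟩ : Set _)
      (Ideal.span_eq _)
    obtain ⟨e, rfl⟩ := exists_idealSect_eq ha
    exact ⟨U, hU, e, _, _, hxa, (hk ⟨U, hU⟩ e).1⟩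
  obtain ⟨𝒮, j, P, p, chart, O1, lam, φ, D⟩ := exists_bundle E (inferInstance : Coh.IsQCoh E)
  obtain ⟨r, hr, τ, hτ⟩ := exists_classifies D hcov
  haveI : IsProper p := isProper_bundle D.hE hE.2 D.hj D.hP
  haveI : IsProper r := by
    haveI : IsProper (r ≫ p) := by rw [hr]; infer_instance
    exact IsProper.of_comp r p
  have hpre : ∀ (U : X.affineOpens) (e : Γ(E, U.1)),
      r ⁻¹ᵁ opn j p chart U.2 e = BlowUpLib.locus I b U ((ClSub.idealModι I).app U.1 e) := by
    intro U e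
    have hW₀ : r ⁻¹ᵁ opn j p chart U.2 e ≤ b ⁻¹ᵁ U.1 :=
      (r.preimage_mono (D.opn_le U.2 e)).trans (le_of_over hr U.1)
    refine le_antisymm ((hk U e).2 _ hW₀ (isGen_classified D hτ U.2 e hW₀)) ?_
    exact (range_le_iff r _).1 (good_of_classifies D hτ U.2 e (BlowUpLib.locus_le b U _) (hk U e).1).range
  let ι' : Type u := Σ U : X.affineOpens, Γ(E, U.1)
  haveI : IsImmersion r := by
    refine PnEmb.isImmersion_of_charts r (fun k : ι' => opn j p chart k.1.2 k.2)
      (fun k => D.isAffineOpen_opn k.1.2 k.2)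
      (fun k => (hpre k.1 k.2).symm ▸ FlatMor12.AmpleFamily.isAffineOpen_locus hb k.1 (idealModι_mem k.2))
      (fun k => ?_) fun x => ?_
    · obtain ⟨U, e⟩ := k
      set a := (ClSub.idealModι I).app U.1 e with hadef
      let O := opn j p chart U.2 e
      let W := BlowUpLib.locus I b U a
      have hW : W ≤ r ⁻¹ᵁ O := (hpre U e).ge
      have hWU : W ≤ b ⁻¹ᵁ U.1 := BlowUpLib.locus_le b U a
      suffices hs : Function.Surjective (r.appLE O W hW) by
        have : ∀ (W' : X'.Opens), W' = r ⁻¹ᵁ O → ∀ h : W' ≤ r ⁻¹ᵁ O,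
            Function.Surjective (r.appLE O W' h) → Function.Surjective (r.app O) := by
          rintro W' rfl h hs'
          rwa [Scheme.Hom.app_eq_appLE]
        exact this W (hpre U e).symm hW hs
      intro y
      suffices y ∈ (r.appLE O W hW).hom.range from this
      refine (Subring.closure_le.2 ?_) ((closure_chart hb U (idealModι_mem e)).ge (Subring.mem_top y))
      rintro z (⟨c, rfl⟩ | ⟨a', ha', hz⟩)
      · refine ⟨p.appLE U.1 O (D.opn_le U.2 e) c, ?_⟩
        show (p.appLE U.1 O _ ≫ r.appLE O W hW) c = _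
        rw [Scheme.Hom.appLE_comp_appLE]
        simp only [hr]
        rfl
      · obtain ⟨e', rfl⟩ := exists_idealSect_eq ha'
        obtain ⟨d, hd⟩ := (D.isGen_phi U.2 e _ le_rfl).2 (resM O1 (D.opn_le U.2 e) (φ.app U.1 e'))
        change d • resM O1 le_rfl _ = _ at hd
        rw [resM_self] at hd
        refine ⟨d, ((hk U e).1 W le_rfl).1 ?_⟩
        show r.appLE O W hW d • resM L le_rfl _ = z • resM L le_rfl _
        rw [resM_self, appLE_smul_classified D hτ U.2 hd hW hWU]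
        refine hinj W ?_
        rw [Scheme.Modules.Hom.app_smul, hres, hres]
        exact hz.symm
    · obtain ⟨U, hU, hxU, -⟩ := Opens.isBasis_iff_nbhd.1 X.isBasis_affineOpens
        (show b x ∈ (⊤ : X.Opens) from trivial)
      obtain ⟨e, he⟩ := D.exists_mem_opn hU (show r x ∈ p ⁻¹ᵁ U from ge_of_over hr U hxU)
      exact ⟨⟨⟨U, hU⟩, e⟩, he⟩
  haveI : IsClosedImmersion r :=
    IsClosedImmersion.of_isPreimmersion r r.isClosedMap.isClosed_range
  exact isProjective_of_closedImmersion D hE.2 r hr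

end Groth.Agent.BlowProjH2
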